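import Mathlib.AlgebraicGeometry.Fiber
import Mathlib.AlgebraicGeometry.FunctionField
import Mathlib.AlgebraicGeometry.Morphisms.Flat
import Mathlib.AlgebraicGeometry.Morphisms.UniversallyOpen
import Mathlib.AlgebraicGeometry.Pullbacks
import Mathlib.RingTheory.Flat.Basic
import Mathlib.RingTheory.LocalProperties.Reduced
import Mathlib.CategoryTheory.Limits.Shapes.Pullback.Mono

/-!
A flat scheme over an integral scheme with integral generic fibre is integral.
-/

open CategoryTheory Limits AlgebraicGeometry TensorProduct TopologicalSpace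

universe u

namespace Groth.Agent.FlatIntegral

set_option linter.style.haveILetI false

variable {X Y : Scheme.{u}} (f : X ⟶ Y) [Flat f] [IsIntegral Y]

lemma irreducibleSpace (h : IrreducibleSpace (f.fiber (genericPoint Y))) : IrreducibleSpace X := by
  have h1 : IsIrreducible (Set.range (f.fiberι (genericPoint Y))) := by
    rw [← Set.image_univ]
    exact (IrreducibleSpace.isIrreducible_univ _).image _ (f.fiberι (genericPoint Y)).continuous.continuousOn
  have h2 : closure (Set.range (f.fiberι (genericPoint Y))) = Set.univ := by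
    refine Set.eq_univ_of_forall fun x ↦ ?_
    have hs : genericPoint Y ⤳ f x := (genericPoint_spec Y).specializes trivial
    obtain ⟨x', hx', he⟩ := Flat.generalizingMap f hs
    refine hx'.mem_closed isClosed_closure (subset_closure ?_)
    rw [f.range_fiberι]
    exact he
  rw [irreducibleSpace_def, Set.top_eq_univ, ← h2]
  exact h1.closure

lemma isReduced_sections [IsReduced (f.fiber (genericPoint Y))] {U : X.Opens} (hU : IsAffineOpen U)
    {V : Y.Opens} (hV : IsAffineOpen V) (e : U ≤ f ⁻¹ᵁ V) [Nonempty V] :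
    _root_.IsReduced Γ(X, U) := by
  let η := genericPoint Y
  have hη : η ∈ V := ((genericPoint_spec Y).mem_open_set_iff V.isOpen).2
    (by simpa using (‹Nonempty V› : Nonempty V).elim fun v ↦ ⟨v.1, v.2⟩)
  let ψ : Γ(Y, V) ⟶ Y.residueField η := Y.presheaf.germ V η hη ≫ Y.residue η
  have hψ : Spec.map ψ ≫ hV.fromSpec = Y.fromSpecResidueField η := by
    rw [Spec.map_comp, Category.assoc, ← IsAffineOpen.fromSpecStalk, hV.fromSpecStalk_eq_fromSpecStalk hη]
    rfl
  have hinj : Function.Injective ψ := by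
    have h1 : Function.Injective (Y.presheaf.germ V η hη) := germ_injective_of_isIntegral Y η hη
    exact (RingHom.injective (Y.residue η).hom : Function.Injective (show Y.functionField →+* _ from
      (Y.residue η).hom)).comp h1
  let φ : Γ(Y, V) ⟶ Γ(X, U) := f.appLE V U e
  have hφ : φ.hom.Flat := HasRingHomProperty.appLE @Flat f inferInstance ⟨V, hV⟩ ⟨U, hU⟩ e
  letI := φ.hom.toAlgebra
  letI := ψ.hom.toAlgebra
  haveI : Module.Flat Γ(Y, V) Γ(X, U) := hφ
  let P := pullback hU.fromSpec (f.fiberι η)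
  haveI : IsReduced P := isReduced_of_isOpenImmersion (pullback.snd hU.fromSpec (f.fiberι η))
  have hUV : hU.fromSpec ≫ f = Spec.map φ ≫ hV.fromSpec := (hV.SpecMap_appLE_fromSpec f hU e).symm
  let e₁ : P ≅ pullback (hU.fromSpec ≫ f) (Y.fromSpecResidueField η) :=
    pullbackRightPullbackFstIso f (Y.fromSpecResidueField η) hU.fromSpec
  let e₂ : pullback (hU.fromSpec ≫ f) (Y.fromSpecResidueField η) ≅
      pullback (Spec.map φ ≫ hV.fromSpec) (Spec.map ψ ≫ hV.fromSpec) :=
    pullback.congrHom hUV hψ.symm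
  let e₃ : pullback (Spec.map φ ≫ hV.fromSpec) (Spec.map ψ ≫ hV.fromSpec) ≅
      Spec (CommRingCat.of (Γ(X, U) ⊗[Γ(Y, V)] Y.residueField η)) :=
    limit.isoLimitCone ⟨_, pullbackIsPullbackOfCompMono (Spec.map φ) (Spec.map ψ) hV.fromSpec⟩ ≪≫
      pullbackSpecIso Γ(Y, V) Γ(X, U) (Y.residueField η)
  haveI : IsReduced (Spec (CommRingCat.of (Γ(X, U) ⊗[Γ(Y, V)] Y.residueField η))) :=
    isReduced_of_isOpenImmersion (e₁ ≪≫ e₂ ≪≫ e₃).inv
  haveI : _root_.IsReduced (Γ(X, U) ⊗[Γ(Y, V)] Y.residueField η) :=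
    isReduced_of_injective
      (Scheme.ΓSpecIso (CommRingCat.of (Γ(X, U) ⊗[Γ(Y, V)] Y.residueField η))).inv.hom
      (ConcreteCategory.bijective_of_isIso
        (Scheme.ΓSpecIso (CommRingCat.of (Γ(X, U) ⊗[Γ(Y, V)] Y.residueField η))).inv).1
  exact isReduced_of_injective
    (Algebra.TensorProduct.includeLeftRingHom : Γ(X, U) →+* Γ(X, U) ⊗[Γ(Y, V)] Y.residueField η)
    (Algebra.TensorProduct.includeLeft_injective (S := Γ(X, U)) (show Function.Injective
      (algebraMap Γ(Y, V) (Y.residueField η)) from hinj))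

theorem isIntegral (h : IsIntegral (f.fiber (genericPoint Y))) : IsIntegral X := by
  haveI := irreducibleSpace f inferInstance
  haveI : ∀ x : X, _root_.IsReduced (X.presheaf.stalk x) := fun x ↦ by
    obtain ⟨V, hV, hxV, -⟩ := exists_isAffineOpen_mem_and_subset (x := f x) (U := (⊤ : Y.Opens)) trivial
    obtain ⟨U, hU, hxU, hUV⟩ := exists_isAffineOpen_mem_and_subset (x := x) (U := f ⁻¹ᵁ V) hxV
    haveI : Nonempty V := ⟨⟨f x, hxV⟩⟩
    haveI := isReduced_sections f hU hV hUV
    haveI := hU.isLocalization_stalk ⟨x, hxU⟩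
    letI : Algebra Γ(X, U) (X.presheaf.stalk x) := X.presheaf.algebra_section_stalk ⟨x, hxU⟩
    exact isReduced_localizationPreserves (hU.primeIdealOf ⟨x, hxU⟩).asIdeal.primeCompl _ (inferInstanceAs (_root_.IsReduced Γ(X, U)))
  haveI : IsReduced X := isReduced_of_isReduced_stalk X
  exact isIntegral_of_irreducibleSpace_of_isReduced X

end Groth.Agent.FlatIntegral
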